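import Mathlib
import Cfsg.Agent.FastGrp
import Cfsg.Agent.Prune
set_option linter.all false
prune_inst 0x7f00000000000000000000000000000000000000000000000000000000000000000000000000000000000000000000000000000000000000000000000000000000000000000000000000000000000000003fffffffffffffffffffffffffffbeffbdffffffff
open scoped Cfsg.Agent.FastGrp

/-!
# Three commuting copies of `S₃` (S5934, box S8)
-/

set_option autoImplicit false

namespace Cfsg.Agent.R2.H27S.Cube

open Subgroup

variable {G : Type*} [Group G]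

/-- commuting subgroups with trivial intersection -/
theorem card_sup {A B : Subgroup G} (hc : ∀ a ∈ A, ∀ b ∈ B, a * b = b * a) (hd : A ⊓ B = ⊥) :
    Nat.card ↥(A ⊔ B) = Nat.card A * Nat.card B := by
  have comm : ∀ (m : A) (n : B), Commute (A.subtype m) (B.subtype n) := fun m n => hc m m.2 n n.2
  have h1 := MonoidHom.noncommCoprod_range A.subtype B.subtype comm
  rw [Subgroup.range_subtype, Subgroup.range_subtype] at h1
  have h2 : Function.Injective (A.subtype.noncommCoprod B.subtype comm) := by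
    rw [injective_iff_map_eq_one]
    rintro ⟨a, b⟩ h
    rw [MonoidHom.noncommCoprod_apply] at h
    have h3 : (a : G) = ((b : G))⁻¹ := eq_inv_of_mul_eq_one_left h
    have h4 : (a : G) ∈ A ⊓ B := Subgroup.mem_inf.2 ⟨a.2, by rw [h3]; exact B.inv_mem b.2⟩
    rw [hd, Subgroup.mem_bot] at h4
    have h5 : (b : G) = 1 := by rw [h4] at h3; exact (inv_eq_one.1 h3.symm)
    exact Prod.ext (Subtype.ext h4) (Subtype.ext h5)
  rw [← h1, Nat.card_congr (MonoidHom.ofInjective h2).symm.toEquiv, Nat.card_prod]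

/-- three commuting copies of `S₃` -/
structure IsCube (x y : Fin 3 → G) : Prop where
  xx : ∀ i, x i * x i = 1
  yy : ∀ i, y i * y i = 1
  br : ∀ i, x i * y i * x i = y i * x i * y i
  ne : ∀ i, x i ≠ y i
  cxx : ∀ i j, i ≠ j → Commute (x i) (x j)
  cxy : ∀ i j, i ≠ j → Commute (x i) (y j)
  cyy : ∀ i j, i ≠ j → Commute (y i) (y j)

namespace IsCube

variable {x y : Fin 3 → G} (h : IsCube x y)

include h

theorem xinv (i : Fin 3) : (x i)⁻¹ = x i := inv_eq_of_mul_eq_one_left (h.xx i)

theorem yinv (i : Fin 3) : (y i)⁻¹ = y i := inv_eq_of_mul_eq_one_left (h.yy i)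

theorem pow_three (i : Fin 3) : (x i * y i) ^ 3 = 1 := by
  have h1 : (x i * y i) ^ 3 = (x i * y i * x i) * (y i * x i * y i) := by
    rw [pow_succ, pow_two]; group
  rw [h1, h.br i]
  calc y i * x i * y i * (y i * x i * y i) = y i * x i * (y i * y i) * x i * y i := by group
    _ = y i * (x i * x i) * y i := by rw [h.yy]; group
    _ = 1 := by rw [h.xx, mul_one, h.yy]

theorem c_ne_one (i : Fin 3) : x i * y i ≠ 1 := by
  intro h1
  apply h.ne i
  have h2 := eq_inv_of_mul_eq_one_left h1
  rw [h2, h.yinv]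

theorem orderOf_c (i : Fin 3) : orderOf (x i * y i) = 3 := orderOf_eq_prime (h.pow_three i) (h.c_ne_one i)

theorem x_conj (i : Fin 3) : x i * (x i * y i) * (x i)⁻¹ = (x i * y i)⁻¹ := by
  rw [mul_inv_rev, h.xinv, h.yinv, ← mul_assoc, h.xx, one_mul]

theorem y_conj (i : Fin 3) : y i * (x i * y i) * (y i)⁻¹ = (x i * y i)⁻¹ := by
  rw [mul_inv_rev, h.xinv, h.yinv]
  calc y i * (x i * y i) * y i = y i * x i * (y i * y i) := by group
    _ = y i * x i := by rw [h.yy, mul_one]

theorem cc {i j : Fin 3} (hij : i ≠ j) : Commute (x i * y i) (x j * y j) :=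
  ((h.cxx i j hij).mul_right (h.cxy i j hij)).mul_left ((h.cxy j i hij.symm).symm.mul_right (h.cyy i j hij))

theorem tc {i j : Fin 3} (hij : i ≠ j) : Commute (x i) (x j * y j) := (h.cxx i j hij).mul_right (h.cxy i j hij)

theorem yc {i j : Fin 3} (hij : i ≠ j) : Commute (y i) (x j * y j) :=
  (h.cxy j i hij.symm).symm.mul_right (h.cyy i j hij)

theorem conj_zpowers (i : Fin 3) {z : G} (hz : z ∈ zpowers (x i * y i)) : x i * z * (x i)⁻¹ = z⁻¹ := by
  obtain ⟨k, rfl⟩ := mem_zpowers_iff.1 hz
  rw [← conj_zpow, h.x_conj, inv_zpow]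

theorem eq_one_of {i : Fin 3} {z : G} (hz : z ∈ zpowers (x i * y i)) (h2 : Commute (x i) z) : z = 1 := by
  have h1 := h.conj_zpowers i hz
  rw [h2.eq, mul_inv_cancel_right] at h1
  have h3 : z ^ 2 = 1 := by
    rw [pow_two]
    nth_rw 1 [h1]
    exact inv_mul_cancel z
  have h4 : z ^ 3 = 1 := by
    obtain ⟨k, rfl⟩ := mem_zpowers_iff.1 hz
    rw [← zpow_natCast, ← zpow_mul, mul_comm, zpow_mul]
    have := h.pow_three i
    rw [← zpow_natCast] at this
    rw [this, one_zpow]
  calc z = z ^ 3 * (z ^ 2)⁻¹ := by group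
    _ = 1 := by rw [h3, h4, inv_one, mul_one]

theorem card_zpowers (i : Fin 3) : Nat.card (zpowers (x i * y i)) = 3 := by
  rw [Nat.card_zpowers, h.orderOf_c]

theorem zcomm {i j : Fin 3} (hij : i ≠ j) : ∀ a ∈ zpowers (x i * y i), ∀ b ∈ zpowers (x j * y j), a * b = b * a := by
  intro a ha b hb
  obtain ⟨k, rfl⟩ := mem_zpowers_iff.1 ha
  obtain ⟨l, rfl⟩ := mem_zpowers_iff.1 hb
  exact ((h.cc hij).zpow_zpow k l)

omit h in
theorem closure_eq : closure (Set.range fun i => x i * y i) =
    zpowers (x 0 * y 0) ⊔ (zpowers (x 1 * y 1) ⊔ zpowers (x 2 * y 2)) := by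
  apply le_antisymm
  · rw [closure_le]
    rintro _ ⟨i, rfl⟩
    fin_cases i
    · exact mem_sup_left (mem_zpowers _)
    · exact mem_sup_right (mem_sup_left (mem_zpowers _))
    · exact mem_sup_right (mem_sup_right (mem_zpowers _))
  · refine sup_le ?_ (sup_le ?_ ?_) <;> rw [zpowers_le] <;> exact subset_closure ⟨_, rfl⟩

theorem t_comm_zpowers {i j : Fin 3} (hij : i ≠ j) : zpowers (x j * y j) ≤ centralizer {x i} := by
  rw [zpowers_le, mem_centralizer_singleton_iff]
  exact ((h.tc hij).symm).eq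

/-- the group generated by the `c_i` has order `27` -/
theorem card_closure : Nat.card ↥(closure (Set.range fun i => x i * y i)) = 27 := by
  rw [closure_eq]
  have h01 : (0 : Fin 3) ≠ 1 := by decide
  have h02 : (0 : Fin 3) ≠ 2 := by decide
  have h12 : (1 : Fin 3) ≠ 2 := by decide
  have h1 : Nat.card ↥(zpowers (x 1 * y 1) ⊔ zpowers (x 2 * y 2)) = 9 := by
    rw [card_sup (h.zcomm h12), h.card_zpowers, h.card_zpowers]
    rw [eq_bot_iff]
    rintro z ⟨hz1, hz2⟩
    have h2 := h.t_comm_zpowers h12 hz2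
    rw [mem_centralizer_singleton_iff] at h2
    exact Subgroup.mem_bot.2 (h.eq_one_of hz1 h2.symm)
  rw [card_sup, h1, h.card_zpowers]
  · intro a ha b hb
    have h2 : zpowers (x 1 * y 1) ⊔ zpowers (x 2 * y 2) ≤ centralizer {a} := by
      refine sup_le ?_ ?_
      · intro b hb
        rw [mem_centralizer_singleton_iff]
        exact (h.zcomm h01 a ha b hb).symm
      · intro b hb
        rw [mem_centralizer_singleton_iff]
        exact (h.zcomm h02 a ha b hb).symm
    exact (mem_centralizer_singleton_iff.1 (h2 hb)).symm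
  · rw [eq_bot_iff]
    rintro z ⟨hz1, hz2⟩
    have h2 := (sup_le (h.t_comm_zpowers h01) (h.t_comm_zpowers h02)) hz2
    rw [mem_centralizer_singleton_iff] at h2
    exact Subgroup.mem_bot.2 (h.eq_one_of hz1 h2.symm)

/-- the group generated by the copies of `S₃` normalizes `E` -/
theorem le_normalizer_of {C : Subgroup G} (hC : C ≤ closure (Set.range x ∪ Set.range y)) :
    C ≤ normalizer (closure (Set.range fun i => x i * y i) : Set G) := by
  refine hC.trans ?_
  rw [closure_le]
  have key : ∀ z : G, (∀ i, z * (x i * y i) * z⁻¹ ∈ closure (Set.range fun i => x i * y i)) → z * z = 1 →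
      z ∈ normalizer (closure (Set.range fun i => x i * y i) : Set G) := by
    intro z hz hzz
    have hzi : z⁻¹ = z := inv_eq_of_mul_eq_one_left hzz
    have h1 : closure (Set.range fun i => x i * y i) ≤
        (closure (Set.range fun i => x i * y i)).comap (MulAut.conj z).toMonoidHom := by
      rw [closure_le]
      rintro _ ⟨i, rfl⟩
      exact hz i
    rw [mem_normalizer_iff]
    intro w
    refine ⟨fun hw => h1 hw, fun hw => ?_⟩
    have h2 : z * (z * w * z⁻¹) * z⁻¹ ∈ closure (Set.range fun i => x i * y i) := h1 hw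
    have h3 : z * (z * w * z⁻¹) * z⁻¹ = w := by
      rw [hzi]
      calc z * (z * w * z) * z = (z * z) * w * (z * z) := by group
        _ = w := by rw [hzz]; group
    rwa [h3] at h2
  rintro z (⟨i, rfl⟩ | ⟨i, rfl⟩)
  · refine key _ (fun j => ?_) (h.xx i)
    by_cases hij : i = j
    · subst hij
      rw [h.x_conj]
      exact inv_mem (subset_closure ⟨i, rfl⟩)
    · rw [(h.tc hij).eq, mul_inv_cancel_right]
      exact subset_closure ⟨j, rfl⟩
  · refine key _ (fun j => ?_) (h.yy i)
    by_cases hij : i = j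
    · subst hij
      rw [h.y_conj]
      exact inv_mem (subset_closure ⟨i, rfl⟩)
    · rw [(h.yc hij).eq, mul_inv_cancel_right]
      exact subset_closure ⟨j, rfl⟩

/-- the Sylow `3`-subgroup of the product -/
theorem le_of_isPGroup [Finite G] {C : Subgroup G} (hC : C = closure (Set.range x ∪ Set.range y))
    (hc : Nat.card C = 2 ^ 3 * 3 ^ 3) {P : Subgroup G} (hP : IsPGroup 3 ↥P) (hPC : P ≤ C) :
    P ≤ closure (Set.range fun i => x i * y i) := by
  set E := closure (Set.range fun i => x i * y i) with hE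
  have hEC : E ≤ C := by
    rw [hC, hE, closure_le]
    rintro _ ⟨i, rfl⟩
    exact mul_mem (subset_closure (Or.inl ⟨i, rfl⟩)) (subset_closure (Or.inr ⟨i, rfl⟩))
  have hE3 : Nat.card E = 3 ^ 3 := by rw [hE, h.card_closure]; norm_num
  have : Fact (Nat.Prime 3) := ⟨by norm_num⟩
  have hEp : IsPGroup 3 ↥E := IsPGroup.of_card hE3
  have h1 : IsPGroup 3 ↥(P ⊔ E) := hP.to_sup_of_normal_right' hEp (hPC.trans (h.le_normalizer_of hC.le))
  obtain ⟨k, hk⟩ := IsPGroup.iff_card.1 h1
  have h2 : Nat.card ↥(P ⊔ E) ∣ 2 ^ 3 * 3 ^ 3 := by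
    rw [← hc]
    exact Subgroup.card_dvd_of_le (sup_le hPC hEC)
  have h3 : Nat.card ↥(P ⊔ E) ∣ 3 ^ 3 := by
    rw [hk] at h2 ⊢
    exact Nat.Coprime.dvd_of_dvd_mul_left (Nat.Coprime.pow _ _ (by norm_num)) h2
  have h4 : E = P ⊔ E := by
    apply Subgroup.eq_of_le_of_card_ge le_sup_right
    rw [hE3]
    exact Nat.le_of_dvd (by norm_num) h3
  rw [h4]
  exact le_sup_left

/-- elements of the product of the copies of `S₃` normalize `⟨c_i⟩` -/
theorem closure_le_normalizer (i : Fin 3) : closure (Set.range x ∪ Set.range y) ≤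
    normalizer (zpowers (x i * y i) : Set G) := by
  rw [closure_le]
  have key : ∀ z : G, z * (x i * y i) * z⁻¹ ∈ zpowers (x i * y i) → z * z = 1 →
      z ∈ normalizer (zpowers (x i * y i) : Set G) := by
    intro z hz hzz
    have hzi : z⁻¹ = z := inv_eq_of_mul_eq_one_left hzz
    have h1 : zpowers (x i * y i) ≤ (zpowers (x i * y i)).comap (MulAut.conj z).toMonoidHom := by
      rw [zpowers_le]
      exact hz
    rw [mem_normalizer_iff]
    intro w
    refine ⟨fun hw => h1 hw, fun hw => ?_⟩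
    have h2 : z * (z * w * z⁻¹) * z⁻¹ ∈ zpowers (x i * y i) := h1 hw
    have h3 : z * (z * w * z⁻¹) * z⁻¹ = w := by
      rw [hzi]
      calc z * (z * w * z) * z = (z * z) * w * (z * z) := by group
        _ = w := by rw [hzz]; group
    rwa [h3] at h2
  rintro z (⟨j, rfl⟩ | ⟨j, rfl⟩)
  · refine key _ ?_ (h.xx j)
    by_cases hij : j = i
    · subst hij
      rw [h.x_conj]
      exact inv_mem (mem_zpowers _)
    · rw [(h.tc hij).eq, mul_inv_cancel_right]
      exact mem_zpowers _
  · refine key _ ?_ (h.yy j)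
    by_cases hij : j = i
    · subst hij
      rw [h.y_conj]
      exact inv_mem (mem_zpowers _)
    · rw [(h.yc hij).eq, mul_inv_cancel_right]
      exact mem_zpowers _

theorem c_not_mem {i j : Fin 3} (hij : i ≠ j) : x j * y j ∉ zpowers (x i * y i) := by
  intro h1
  exact h.c_ne_one j (h.eq_one_of h1 (h.tc hij))

end IsCube

theorem normalizer_le {X : Subgroup G} : normalizer (X : Set G) ≤ normalizer ((X ⊔ centralizer (X : Set G) : Subgroup G) : Set G) := by
  have key : ∀ n ∈ normalizer (X : Set G), X ⊔ centralizer (X : Set G) ≤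
      (X ⊔ centralizer (X : Set G)).comap (MulAut.conj n).toMonoidHom := by
    intro n hn
    refine sup_le ?_ ?_
    · intro x hx
      exact mem_sup_left ((mem_normalizer_iff.1 hn x).1 hx)
    · intro x hx
      refine mem_sup_right (?_ : n * x * n⁻¹ ∈ centralizer (X : Set G))
      rw [mem_centralizer_iff] at hx ⊢
      intro z hz
      have h1 : n⁻¹ * z * n ∈ X := by
        rw [mem_normalizer_iff.1 hn]
        have : n * (n⁻¹ * z * n) * n⁻¹ = z := by group
        rwa [this]
      have h2 := hx _ h1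
      calc z * (n * x * n⁻¹) = n * ((n⁻¹ * z * n) * x) * n⁻¹ := by group
        _ = n * (x * (n⁻¹ * z * n)) * n⁻¹ := by rw [h2]
        _ = n * x * n⁻¹ * z := by group
  intro n hn
  rw [mem_normalizer_iff]
  intro w
  refine ⟨fun hw => key n hn hw, fun hw => ?_⟩
  have h1 : n⁻¹ * (n * w * n⁻¹) * n⁻¹⁻¹ ∈ X ⊔ centralizer (X : Set G) := key n⁻¹ (inv_mem hn) hw
  have h3 : n⁻¹ * (n * w * n⁻¹) * n⁻¹⁻¹ = w := by group
  rwa [h3] at h1

theorem IsCube.dvd_normalizer [Finite G] {x y : Fin 3 → G} (h : IsCube x y) {X C : Subgroup G}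
    (hXC : centralizer (X : Set G) = C) (hd : X ⊓ C = ⊥) (hC : C = closure (Set.range x ∪ Set.range y)) {τ : G}
    (hτ : τ ∈ normalizer (X : Set G)) (hτc : ∀ i, τ * (x i * y i) * τ⁻¹ = x (i + 1) * y (i + 1)) :
    3 * (Nat.card X * Nat.card C) ∣ Nat.card ↥(normalizer (X : Set G)) := by
  set N := normalizer (X : Set G) with hN
  have hcomm : ∀ a ∈ X, ∀ b ∈ C, a * b = b * a := by
    intro a ha b hb
    rw [← hXC, mem_centralizer_iff] at hb
    exact hb a ha
  have hX : X ≤ centralizer (C : Set G) := by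
    intro a ha
    rw [mem_centralizer_iff]
    intro b hb
    exact (hcomm a ha b hb).symm
  have h1 : X ⊔ C ≤ N := by
    refine sup_le le_normalizer ?_
    rw [← hXC]
    exact centralizer_le_normalizer _
  have h2 : N ≤ normalizer ((X ⊔ C : Subgroup G) : Set G) := by
    rw [← hXC]
    exact normalizer_le
  have hnorm : ((X ⊔ C).subgroupOf N).Normal := normal_subgroupOf_of_le_normalizer h2
  have hci : ∀ i, x i * y i ∈ C := by
    intro i
    rw [hC]
    exact mul_mem (subset_closure (Or.inl ⟨i, rfl⟩)) (subset_closure (Or.inr ⟨i, rfl⟩))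
  have h3 : X ⊔ C ≤ normalizer (zpowers (x 0 * y 0) : Set G) := by
    refine sup_le ?_ ?_
    · refine le_trans ?_ (centralizer_le_normalizer _)
      intro a ha
      rw [mem_centralizer_iff]
      intro b hb
      obtain ⟨k, rfl⟩ := mem_zpowers_iff.1 hb
      exact (hcomm a ha _ (zpow_mem (hci 0) k)).symm
    · rw [hC]
      exact h.closure_le_normalizer 0
  have hpow : ∀ m : ℕ, ∃ i : Fin 3, (i : ℕ) = m % 3 ∧ τ ^ m * (x 0 * y 0) * (τ ^ m)⁻¹ = x i * y i := by
    intro m
    induction m with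
    | zero => exact ⟨0, rfl, by simp⟩
    | succ m ih =>
      obtain ⟨i, hi, h4⟩ := ih
      refine ⟨i + 1, ?_, ?_⟩
      · revert hi
        fin_cases i <;> intro hi
        · show 1 = (m + 1) % 3
          change 0 = m % 3 at hi
          omega
        · show 2 = (m + 1) % 3
          change 1 = m % 3 at hi
          omega
        · show 0 = (m + 1) % 3
          change 2 = m % 3 at hi
          omega
      · rw [← hτc i, ← h4, pow_succ']
        group
  have h4 : 3 ∣ orderOf (QuotientGroup.mk' ((X ⊔ C).subgroupOf N) ⟨τ, hτ⟩) := by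
    set m := orderOf (QuotientGroup.mk' ((X ⊔ C).subgroupOf N) ⟨τ, hτ⟩) with hm
    have h5 := pow_orderOf_eq_one (QuotientGroup.mk' ((X ⊔ C).subgroupOf N) ⟨τ, hτ⟩)
    rw [← hm, ← map_pow] at h5
    have h6 : (⟨τ, hτ⟩ : N) ^ m ∈ (X ⊔ C).subgroupOf N := by
      rwa [QuotientGroup.mk'_apply, QuotientGroup.eq_one_iff] at h5
    rw [mem_subgroupOf] at h6
    have h7 : τ ^ m ∈ X ⊔ C := h6
    obtain ⟨i, hi, h8⟩ := hpow m
    have h9 := (mem_normalizer_iff.1 (h3 h7) (x 0 * y 0)).1 (mem_zpowers _)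
    rw [h8] at h9
    by_cases h0 : i = 0
    · subst h0
      exact Nat.dvd_of_mod_eq_zero hi.symm
    · exact absurd h9 (h.c_not_mem (Ne.symm h0))
  have h5 : 3 ∣ (X ⊔ C).relIndex N := h4.trans (orderOf_dvd_natCard _)
  have h6 : Nat.card ↥(X ⊔ C) * (X ⊔ C).relIndex N = Nat.card N := by
    rw [← relIndex_bot_left, ← relIndex_bot_left]
    exact relIndex_mul_relIndex _ _ _ bot_le h1
  rw [← h6, card_sup hcomm hd, mul_comm 3]
  exact Nat.mul_dvd_mul_left _ h5

end Cfsg.Agent.R2.H27S.Cube
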